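import Cfsg.Agent.SignalizersComponents.CharP
set_option linter.all false

/-!
# Characteristic `p`: transport, normal subgroups, inheritance from centralizers of elements
-/

set_option autoImplicit false

namespace Cfsg.Agent.H239.CharPLocal

open Subgroup Cfsg
open Cfsg.Agent.Lib.Cores

/-- `C_G(O_p(G)) ≤ O_p(G)`. -/
def CP (p : ℕ) (G : Type*) [Group G] : Prop :=
  centralizer (pCore p G : Set G) ≤ pCore p G

theorem CP.of_equiv {p : ℕ} {G H : Type*} [Group G] [Group H] (e : G ≃* H) (h : CP p G) :
    CP p H := by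
  have h1 := map_equiv_pCore e p
  intro x hx
  have h2 : e.symm x ∈ centralizer (pCore p G : Set G) := by
    rw [mem_centralizer_iff]
    intro y hy
    have h3 : e y ∈ pCore p H := by
      rw [← h1]
      exact ⟨y, hy, rfl⟩
    have h4 := mem_centralizer_iff.mp hx (e y) h3
    apply e.injective
    simpa using h4
  have h3 := h h2
  rw [← h1]
  exact ⟨_, h3, by simp⟩

theorem cp_iff_genFitting {p : ℕ} [Fact p.Prime] {G : Type*} [Group G] [Finite G] :
    generalizedFittingSubgroup G = pCore p G ↔ CP p G :=
  SignalizersComponents.CharP.genFitting_eq_pCore_iff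

/-- A normal subgroup of a finite group of characteristic `p` has characteristic `p`. -/
theorem CP.normal {p : ℕ} [hp : Fact p.Prime] {G : Type*} [Group G] [Finite G] (h : CP p G)
    (N : Subgroup G) [hN : N.Normal] : CP p N := by
  rw [← cp_iff_genFitting] at h ⊢
  have h1 : (generalizedFittingSubgroup N).map N.subtype ≤ generalizedFittingSubgroup G := by
    unfold generalizedFittingSubgroup
    rw [Subgroup.map_sup]
    refine sup_le_sup ?_ ?_
    · rw [Subgroup.map_le_iff_le_comap]
      refine sSup_le fun K hK => ?_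
      rw [← Subgroup.map_le_iff_le_comap]
      refine le_sSup ⟨hK.1.trans' hN.isSubnormal, ?_⟩
      obtain ⟨h2, h3⟩ := hK.2
      have e : K ≃* (K.map N.subtype) := K.equivMapOfInjective _ N.subtype_injective
      have hp' : Group.IsPerfect (K.map N.subtype) :=
        Group.IsPerfect.ofSurjective (f := e.toMonoidHom) e.surjective
      refine ⟨hp', ?_⟩
      have hmap : (Subgroup.center K).map e.toMonoidHom = Subgroup.center (K.map N.subtype) := by
        ext y
        simp only [Subgroup.mem_map, Subgroup.mem_center_iff]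
        constructor
        · rintro ⟨x, hx, rfl⟩ g
          obtain ⟨g', rfl⟩ := e.surjective g
          simpa using congrArg e (hx g')
        · intro hy
          refine ⟨e.symm y, fun g => ?_, by simp⟩
          apply e.injective
          simpa using hy (e g)
      exact ((QuotientGroup.congr _ _ e hmap).isSimpleGroup_congr).mp h3
    · rw [map_subtype_fittingSubgroup hN]
      exact inf_le_right
  rw [h] at h1
  have h2 : IsPGroup p (generalizedFittingSubgroup N) := by
    have h3 : IsPGroup p ((generalizedFittingSubgroup N).map N.subtype) :=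
      (pCore_isPGroup p).to_le h1
    exact h3.of_equiv
      ((generalizedFittingSubgroup N).equivMapOfInjective _ N.subtype_injective).symm
  apply le_antisymm
  · intro x hx
    have h3 : (N.subtype x) ∈ pCore p G := h1 ⟨x, hx, rfl⟩
    have h4 : (N.subtype x) ∈ (pCore p N).map N.subtype := by
      rw [map_subtype_pCore p hN]
      exact ⟨x.2, h3⟩
    obtain ⟨y, hy, hyx⟩ := h4
    have : y = x := N.subtype_injective hyx
    rwa [← this]
  · refine le_trans ?_ le_sup_right
    exact pCore_le_fittingSubgroup p

/-- If `C_G(z)` has characteristic `p`, `z` a central element of the `p`-group `X`, then `N_G(X)` has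
characteristic `p`. -/
theorem cp_normalizer_of_centralizer {p : ℕ} [hp : Fact p.Prime] {G : Type*} [Group G] [Finite G]
    {X : Subgroup G} (hX : IsPGroup p X) {z : G} (hz : z ∈ X) (hzc : ∀ x ∈ X, x * z = z * x)
    (h : CP p ↥(centralizer ({z} : Set G))) : CP p ↥(normalizer (X : Set G)) := by
  refine SignalizersComponents.CharP.charP_normalizer
    (R := (Cfsg.pCore p ↥(Subgroup.centralizer ({z} : Set G))).map
      (Subgroup.centralizer ({z} : Set G)).subtype)
    (X := Subgroup.centralizer ({z} : Set G)) ?_ ?_ ?_ hX ?_ ?_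
  · exact (Lib.Cores.pCore_isPGroup p).map _
  · intro g hg
    rw [Subgroup.mem_normalizer_iff]
    intro y
    constructor
    · rintro ⟨w, hw, rfl⟩
      exact ⟨⟨g, hg⟩ * w * ⟨g, hg⟩⁻¹, (Lib.Cores.pCore_normal p).conj_mem w hw ⟨g, hg⟩, rfl⟩
    · rintro ⟨w, hw, hwy⟩
      refine ⟨⟨g, hg⟩⁻¹ * w * ⟨g, hg⟩, ?_, ?_⟩
      · simpa using! (Lib.Cores.pCore_normal p).conj_mem w hw (⟨g, hg⟩⁻¹ : _)
      · change g⁻¹ * (w : G) * g = y
        have hwy' : (w : G) = g * y * g⁻¹ := hwy
        rw [hwy']
        group
  · rintro y ⟨hy1, hy2⟩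
    have h1 : (⟨y, hy1⟩ : Subgroup.centralizer ({z} : Set G)) ∈
        Subgroup.centralizer (Cfsg.pCore p ↥(Subgroup.centralizer ({z} : Set G)) : Set _) := by
      rw [Subgroup.mem_centralizer_iff]
      intro w hw
      apply Subtype.ext
      exact Subgroup.mem_centralizer_iff.mp hy2 (w : G) ⟨w, hw, rfl⟩
    exact ⟨_, h h1, rfl⟩
  · intro y hy
    rw [Subgroup.mem_centralizer_iff]
    rintro w hw
    rw [Set.mem_singleton_iff] at hw
    subst hw
    exact (hzc y hy).symm
  · exact Subgroup.centralizer_le (by
      intro w hw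
      rw [Set.mem_singleton_iff] at hw
      rw [hw]
      exact hz)

/-- conjugation -/
theorem cp_centralizer_conj {p : ℕ} {G : Type*} [Group G] (g z : G)
    (h : CP p ↥(centralizer ({z} : Set G))) : CP p ↥(centralizer ({g * z * g⁻¹} : Set G)) := by
  have e : (centralizer ({z} : Set G)).map (MulAut.conj g).toMonoidHom =
      centralizer ({g * z * g⁻¹} : Set G) := by
    ext x
    simp only [Subgroup.mem_map, mem_centralizer_singleton_iff]
    constructor
    · rintro ⟨y, hy, rfl⟩
      simp only [MulEquiv.toMonoidHom_eq_coe, MonoidHom.coe_coe, MulAut.conj_apply]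
      calc g * y * g⁻¹ * (g * z * g⁻¹) = g * (y * z) * g⁻¹ := by group
        _ = g * (z * y) * g⁻¹ := by rw [hy]
        _ = g * z * g⁻¹ * (g * y * g⁻¹) := by group
    · intro hx
      refine ⟨g⁻¹ * x * g, ?_, by simp [mul_assoc]⟩
      have : g⁻¹ * (x * (g * z * g⁻¹)) * g = g⁻¹ * (g * z * g⁻¹ * x) * g := by rw [hx]
      calc g⁻¹ * x * g * z = g⁻¹ * (x * (g * z * g⁻¹)) * g := by group
        _ = g⁻¹ * (g * z * g⁻¹ * x) * g := this
        _ = z * (g⁻¹ * x * g) := by group
  rw [← e]
  exact h.of_equiv ((centralizer ({z} : Set G)).equivMapOfInjective _ (MulAut.conj g).injective)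

end Cfsg.Agent.H239.CharPLocal
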