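import Cfsg.Agent.H104.TNum
import Cfsg.Agent.H379.P4.TwoElt
import Cfsg.Agent.H377.OddThree_m3
import Cfsg.Agent.H94.Sp.Base_m3
import Cfsg.Agent.H982.LawFam
import Cfsg.Agent.H376.PrimeOrd
import Cfsg.Agent.LieClassical.SympCenter
import Cfsg.Agent.LieClassical.OrthCenter
import Cfsg.Agent.LieClassical.OmegaReindex
import Cfsg.Agent.S0248
import Cfsg.Agent.Prune
set_option linter.all false

section
prune_inst 0x7f00000000000000000000000000000000000000000000000000000000000000000000000000000000000000000000000000000000000000000000000000000000000000000000000000000000000000003fffffffffffffffffffffffffffbeffbdffffffff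

-- part: H104/TSp
section
set_option linter.all false
open scoped Cfsg.Agent.FastGrp

/-!
# Block T (S3537): the symplectic and odd orthogonal candidates (helper104)

* `psp` : if `PSp_{2n}(u)` satisfies `T4 p q` then `n = 4`, `u = q`;
* `oodd` : the same for `PΩ_{2n+1}(u)`.
-/

set_option autoImplicit false

namespace Cfsg.Agent.H104.TSp

open Cfsg Cfsg.Agent.H202.T Cfsg.Agent.H436 Cfsg.Agent.OrdDiv Cfsg.Agent.H94.PG

theorem psp {p q n u : ℕ} {S : Type*} [Group S] [Finite S] (h : T4 p q S) (hg : IsNamed (.psp n u) S) :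
    n = 4 ∧ u = q := by
  obtain ⟨hn, -, hu⟩ := hg.cond
  obtain ⟨F, _, _, hF, ⟨e⟩⟩ := hg.real
  have h' := h.congr e
  have hc : Nat.card S = Nat.card (PSp n F) := Nat.card_congr e.toEquiv
  have hFc : Nat.card F = u := by rw [Nat.card_eq_fintype_card, hF]
  have : Finite (PSp n F) := Finite.of_equiv S e.toEquiv
  refine core h' hn hu ?_ ?_ ?_ ⟨Nat.gcd 2 (u - 1), Nat.gcd_dvd_left _ _, ?_⟩
  · intro r hr hr2 hd ha
    rw [← hFc]
    exact Cfsg.Agent.H377.psp_info hn hr hr2 hd ha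
  · intro N hN hd
    rw [← hFc] at hd
    rcases hd with hd | hd
    · exact Cfsg.Agent.H377.exists_psp_tor_plus (by omega) hN.pos (Or.inl ⟨hN, hd⟩)
    · exact Cfsg.Agent.H377.exists_psp_tor_minus (by omega) hN.pos (Or.inl ⟨hN, hd⟩)
  · intro N hN hd
    rw [← hFc] at hd
    rcases hd with hd | hd
    · exact Cfsg.Agent.H377.exists_psp_tor_plus (by omega) hN (Or.inr hd)
    · exact Cfsg.Agent.H377.exists_psp_tor_minus (by omega) hN (Or.inr hd)
  · rw [← hc]
    exact hg.eq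

theorem oodd {p q n u : ℕ} {S : Type*} [Group S] [Finite S] (h : T4 p q S) (hg : IsNamed (.oodd n u) S) :
    n = 4 ∧ u = q := by
  obtain ⟨hn, ho, hu⟩ := hg.cond
  obtain ⟨F, _, _, hF, ⟨e⟩⟩ := hg.real
  have h' := h.congr e
  have hc : Nat.card S = Nat.card (POmega F (quadFormOdd n F)) := Nat.card_congr e.toEquiv
  have hFc : Nat.card F = u := by rw [Nat.card_eq_fintype_card, hF]
  have hoF : Odd (Nat.card F) := by rw [hFc]; exact ho
  have : Finite (POmega F (quadFormOdd n F)) := Finite.of_equiv S e.toEquiv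
  refine core h' (by omega) hu ?_ ?_ ?_ ⟨2, dvd_rfl, ?_⟩
  · intro r hr hr2 hd ha
    rw [← hFc]
    exact Cfsg.Agent.H377.OOdd.info hoF hn hr hr2 hd ha
  · intro N hN hd
    rw [← hFc] at hd
    rcases hd with hd | hd
    · exact Cfsg.Agent.H377.OOdd.exists_odd_tor hoF hn hN (Cfsg.Agent.H377.elt_tor_plus (by omega) hd)
    · exact Cfsg.Agent.H377.OOdd.exists_odd_tor hoF hn hN (Cfsg.Agent.H377.elt_tor_minus (by omega) hd)
  · intro N hN hd
    rw [← hFc] at hd
    rcases hd with hd | hd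
    · exact Cfsg.Agent.H377.OOdd.exists_even_tor hoF hn (Cfsg.Agent.H377.elt_tor_plus (by omega) hd)
    · exact Cfsg.Agent.H377.OOdd.exists_even_tor hoF hn (Cfsg.Agent.H377.elt_tor_minus (by omega) hd)
  · rw [← hc]
    exact hg.eq

end Cfsg.Agent.H104.TSp
end

-- part: H202/TP/Defs
section
set_option linter.all false
open scoped Cfsg.Agent.FastGrp

/-!
# Block TP (S3536): the composition factor of a group isospectral to `PSp_{2n}(q)`, `Ω_{2n+1}(q)`,
# `n = 2 ^ k ≥ 8`, `q = p ^ a`, `a` odd: interface (helper202)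

* `mn q k = (q ^ n + 1) / 2`, equal to `mm (q ^ (n / 4))`: all the lemmas of `H202/T/Defs`, `H202/T/Num` on `mm q` apply with
  `q ^ 2 ^ (k - 2)` for `q`;
* `TK p q k S` : what is used of the composition factor.
-/

set_option autoImplicit false
set_option linter.unusedSectionVars false

namespace Cfsg.Agent.H202.TP

open Cfsg.Agent.H202.T

/-- `(q ^ n + 1) / 2`, `n = 2 ^ k` -/
def mn (q k : ℕ) : ℕ := (q ^ 2 ^ k + 1) / 2

/-- What is used of the composition factor in the elimination. -/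
structure TK (p q k : ℕ) (S : Type*) [Group S] : Prop where
  prime : p.Prime
  ne_two : p ≠ 2
  pow : ∃ a, Odd a ∧ q = p ^ a
  hk : 3 ≤ k
  mem : ∃ x : S, orderOf x = mn q k
  /-- isolation -/
  iso : ∀ (r : ℕ) (x : S), r.Prime → r ∣ mn q k → r ∣ orderOf x → orderOf x ∣ mn q k
  /-- the powers of 2 -/
  two : ∀ (j : ℕ) (x : S), 2 ^ j ∣ orderOf x → 2 ^ j ∣ mn q k - 1
  /-- the torus -/
  tor : ∀ x : S, (∀ i, 1 ≤ i → i < k → ∃ s, s.Prime ∧ s ≠ 2 ∧ s ∣ q ^ 2 ^ i + 1 ∧ s ∣ orderOf x) →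
    ∃ j, orderOf x ∣ p ^ j * (q ^ 2 ^ k - 1)
  /-- the primes -/
  pr : ∀ r : ℕ, r.Prime → r ∣ Nat.card S → r = p ∨ ∃ i, 1 ≤ i ∧ i ≤ 2 ^ k ∧ r ∣ q ^ (2 * i) - 1
  /-- two further odd primes, not adjacent in the prime graph -/
  coc : ∃ a b : ℕ, a.Prime ∧ b.Prime ∧ a ≠ 2 ∧ b ≠ 2 ∧ a ≠ b ∧ ¬ a ∣ mn q k ∧ ¬ b ∣ mn q k ∧ a ∣ Nat.card S ∧
    b ∣ Nat.card S ∧ ¬ ∃ x : S, orderOf x = a * b
  not_psl2 : ∀ (F : Type) [Field F] [Fintype F], IsEmpty (S ≃* Matrix.ProjectiveSpecialLinearGroup (Fin 2) F)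

section Num

variable {q k : ℕ}

theorem pow_eq (hk : 2 ≤ k) (q : ℕ) : (q ^ 2 ^ (k - 2)) ^ 4 = q ^ 2 ^ k := by
  obtain ⟨j, rfl⟩ : ∃ j, k = j + 2 := ⟨k - 2, by omega⟩
  rw [← pow_mul, Nat.add_sub_cancel, pow_add]
  norm_num

theorem mn_eq (hk : 2 ≤ k) (q : ℕ) : mn q k = mm (q ^ 2 ^ (k - 2)) := by
  rw [mn, mm, pow_eq hk]

theorem two_mn (hk : 2 ≤ k) (hq : Odd q) : 2 * mn q k = q ^ 2 ^ k + 1 := by
  rw [mn_eq hk, two_mm hq.pow, pow_eq hk]

theorem two_mn_sub (hk : 2 ≤ k) (hq : Odd q) : 2 * (mn q k - 1) = q ^ 2 ^ k - 1 := by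
  have := two_mn hk hq
  omega

/-- `(q ^ n - 1) / 2` -/
theorem half_mn (hk : 2 ≤ k) (hq : Odd q) : (q ^ 2 ^ k - 1) / 2 = mn q k - 1 := by
  have := two_mn_sub hk hq
  omega

theorem mn_ge (hk : 3 ≤ k) (hq : 3 ≤ q) : 3281 ≤ mn q k := by
  have h1 : 3 ^ 8 ≤ q ^ 8 := Nat.pow_le_pow_left hq 8
  have h2 : q ^ 8 ≤ q ^ 2 ^ k := by
    apply Nat.pow_le_pow_right (by omega)
    calc 8 = 2 ^ 3 := by norm_num
      _ ≤ 2 ^ k := Nat.pow_le_pow_right (by norm_num) hk
  unfold mn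
  omega

end Num

section

variable {p q k : ℕ} {S : Type*} [Group S]

theorem TK.odd_p (h : TK p q k S) : Odd p := h.prime.odd_of_ne_two h.ne_two

theorem TK.odd (h : TK p q k S) : Odd q := by
  obtain ⟨f, -, rfl⟩ := h.pow
  exact h.odd_p.pow

theorem TK.hk2 (h : TK p q k S) : 2 ≤ k := by
  have := h.hk
  omega

theorem TK.dvd (h : TK p q k S) : p ∣ q := by
  obtain ⟨f, hf, rfl⟩ := h.pow
  exact dvd_pow_self p (by rintro rfl; exact absurd hf (by decide))

theorem TK.three_le_p (h : TK p q k S) : 3 ≤ p := by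
  have := h.prime.two_le
  have := h.ne_two
  omega

theorem TK.three_le (h : TK p q k S) : 3 ≤ q :=
  h.three_le_p.trans (Nat.le_of_dvd h.odd.pos h.dvd)

/-- the number to which the lemmas of `H202/T/Num` apply -/
theorem TK.odd_Q (h : TK p q k S) : Odd (q ^ 2 ^ (k - 2)) := h.odd.pow

theorem TK.nine_le_Q (h : TK p q k S) : 9 ≤ q ^ 2 ^ (k - 2) := by
  have h1 : 3 ^ 2 ≤ q ^ 2 := Nat.pow_le_pow_left h.three_le 2
  have h2 : q ^ 2 ≤ q ^ 2 ^ (k - 2) := by
    apply Nat.pow_le_pow_right (by have := h.three_le; omega)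
    calc 2 = 2 ^ 1 := by norm_num
      _ ≤ 2 ^ (k - 2) := Nat.pow_le_pow_right (by norm_num) (by have := h.hk; omega)
  omega

theorem TK.mn_eq (h : TK p q k S) : mn q k = mm (q ^ 2 ^ (k - 2)) := Cfsg.Agent.H202.TP.mn_eq h.hk2 q

theorem TK.mn_ge (h : TK p q k S) : 3281 ≤ mn q k := Cfsg.Agent.H202.TP.mn_ge h.hk h.three_le

theorem TK.mn_mod (h : TK p q k S) : mn q k % 8 = 1 := by
  rw [h.mn_eq]
  exact mm_mod h.odd_Q

theorem TK.ne_two_of_dvd (h : TK p q k S) {r : ℕ} (hr : r ∣ mn q k) : r ≠ 2 := by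
  rintro rfl
  have := h.mn_mod
  omega

/-- the prime divisors of `mn q k` are congruent to 1 modulo 8 -/
theorem TK.mod_eight (h : TK p q k S) {r : ℕ} (hr : r.Prime) (hrm : r ∣ mn q k) : r % 8 = 1 := by
  rw [h.mn_eq] at hrm
  exact Cfsg.Agent.H202.T.mod_eight h.odd_Q hr hrm

theorem TK.not_two_pow (h : TK p q k S) (a : ℕ) : mn q k ≠ 2 ^ a + 1 := by
  rw [h.mn_eq]
  exact Cfsg.Agent.H202.T.not_two_pow h.odd_Q (by have := h.nine_le_Q; omega) a

theorem TK.prime_power (h : TK p q k S) {X : ℕ} (hX : IsPrimePow X)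
    (hm : mn q k = X * (X + 1) + 1 ∨ mn q k = X * (X - 1) + 1) : False := by
  rw [h.mn_eq] at hm
  exact Cfsg.Agent.H202.T.prime_power h.odd_Q (by have := h.nine_le_Q; omega) hX hm

theorem TK.dvd_card (h : TK p q k S) : mn q k ∣ Nat.card S := by
  obtain ⟨x, hx⟩ := h.mem
  rw [← hx]
  exact orderOf_dvd_natCard x

theorem TK.congr {H : Type*} [Group H] (h : TK p q k S) (e : S ≃* H) : TK p q k H where
  prime := h.prime
  ne_two := h.ne_two
  pow := h.pow
  hk := h.hk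
  mem := by
    obtain ⟨x, hx⟩ := h.mem
    exact ⟨e x, by rw [MulEquiv.orderOf_eq, hx]⟩
  iso := fun r x => by rw [← MulEquiv.orderOf_eq e.symm x]; exact h.iso r _
  two := fun j x => by rw [← MulEquiv.orderOf_eq e.symm x]; exact h.two j _
  tor := fun x => by rw [← MulEquiv.orderOf_eq e.symm x]; exact h.tor _
  pr := by rw [← Nat.card_congr e.toEquiv]; exact h.pr
  coc := by
    obtain ⟨a, b, h1, h2, h3, h4, h5, h6, h7, h8, h9, h10⟩ := h.coc
    refine ⟨a, b, h1, h2, h3, h4, h5, h6, h7, by rwa [← Nat.card_congr e.toEquiv], by rwa [← Nat.card_congr e.toEquiv],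
      ?_⟩
    rintro ⟨x, hx⟩
    exact h10 ⟨e.symm x, by rw [MulEquiv.orderOf_eq, hx]⟩
  not_psl2 := fun F _ _ => ⟨fun f => (h.not_psl2 F).false (e.trans f)⟩

/-- the torus, with the power of 2: the order divides `p ^ j (q ^ n - 1) / 2` -/
theorem TK.tor' (h : TK p q k S) (x : S)
    (hx : ∀ i, 1 ≤ i → i < k → ∃ s, s.Prime ∧ s ≠ 2 ∧ s ∣ q ^ 2 ^ i + 1 ∧ s ∣ orderOf x) :
    ∃ j, orderOf x ∣ p ^ j * (mn q k - 1) := by
  obtain ⟨j, hj⟩ := h.tor x hx
  refine ⟨j, ?_⟩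
  rcases Nat.eq_zero_or_pos (orderOf x) with h0 | h0
  · rw [h0] at hj
    have h1 : p ^ j * (q ^ 2 ^ k - 1) = 0 := Nat.eq_zero_of_zero_dvd hj
    rw [← two_mn_sub h.hk2 h.odd] at h1
    have h2 := h.mn_ge
    have h3 : 0 < p ^ j := pow_pos h.prime.pos j
    exfalso
    have : 0 < p ^ j * (2 * (mn q k - 1)) := Nat.mul_pos h3 (by omega)
    omega
  · obtain ⟨b, N, hN, hbN⟩ := Nat.exists_eq_two_pow_mul_odd h0.ne'
    rw [← two_mn_sub h.hk2 h.odd] at hj
    rw [hbN]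
    apply Nat.Coprime.mul_dvd_of_dvd_of_dvd (Nat.Coprime.pow_left b (Nat.coprime_two_left.2 hN))
    · exact (h.two b x (by rw [hbN]; exact dvd_mul_right _ _)).mul_left _
    · have h1 : N ∣ 2 * (p ^ j * (mn q k - 1)) := by
        refine ((dvd_mul_left N (2 ^ b)).trans (hbN ▸ hj)).trans ?_
        exact ⟨1, by ring⟩
      exact (Nat.coprime_two_left.2 hN).symm.dvd_of_dvd_mul_left h1

/-- every number `q ^ 2 ^ i + 1`, `1 ≤ i < k`, has an odd prime divisor, and it divides `(q ^ n - 1) / 2` -/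
theorem exists_prime_level (hq : Odd q) (hq3 : 3 ≤ q) {i : ℕ} (hi : 1 ≤ i) (hik : i < k) :
    ∃ s, s.Prime ∧ s ≠ 2 ∧ s ∣ q ^ 2 ^ i + 1 ∧ s ∣ mn q k - 1 := by
  have h1 : q ^ 2 ^ i % 4 = 1 := by
    obtain ⟨j, rfl⟩ : ∃ j, i = j + 1 := ⟨i - 1, by omega⟩
    rw [pow_succ 2 j, mul_comm (2 ^ j), pow_mul, Nat.pow_mod]
    have : q ^ 2 % 4 = 1 := by
      obtain ⟨c, rfl⟩ := hq
      have : (2 * c + 1) ^ 2 = 4 * (c ^ 2 + c) + 1 := by ring
      omega
    rw [this]
    simp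
  have h9 : 9 ≤ q ^ 2 ^ i := by
    calc 9 = 3 ^ 2 := by norm_num
      _ ≤ q ^ 2 := Nat.pow_le_pow_left hq3 2
      _ ≤ q ^ 2 ^ i := by
        apply Nat.pow_le_pow_right (by omega)
        calc 2 = 2 ^ 1 := by norm_num
          _ ≤ 2 ^ i := Nat.pow_le_pow_right (by norm_num) hi
  obtain ⟨c, hc⟩ : ∃ c, q ^ 2 ^ i + 1 = 2 * c := ⟨(q ^ 2 ^ i + 1) / 2, by omega⟩
  have hco : Odd c := by
    rw [Nat.odd_iff]
    omega
  obtain ⟨s, hs, hsc⟩ := Nat.exists_prime_and_dvd (n := c) (by omega)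
  have hs2 : s ≠ 2 := by
    rintro rfl
    exact (Nat.not_even_iff_odd.2 hco) (even_iff_two_dvd.2 hsc)
  have h2 : s ∣ q ^ 2 ^ i + 1 := by rw [hc]; exact hsc.mul_left 2
  refine ⟨s, hs, hs2, h2, ?_⟩
  have hk2 : 2 ≤ k := by omega
  have h3 : s ∣ q ^ 2 ^ k - 1 := by
    have h4 : q ^ 2 ^ i + 1 ∣ q ^ 2 ^ (i + 1) - 1 := by
      refine ⟨q ^ 2 ^ i - 1, ?_⟩
      have := Nat.sq_sub_sq (q ^ 2 ^ i) 1
      rw [← pow_mul, ← pow_succ] at this
      simpa using this
    have h5 : q ^ 2 ^ (i + 1) - 1 ∣ q ^ 2 ^ k - 1 := by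
      obtain ⟨d, rfl⟩ : ∃ d, k = i + 1 + d := ⟨k - (i + 1), by omega⟩
      rw [pow_add 2 (i + 1) d, pow_mul]
      simpa using Nat.sub_dvd_pow_sub_pow (q ^ 2 ^ (i + 1)) 1 (2 ^ d)
    exact h2.trans (h4.trans h5)
  rw [← two_mn_sub hk2 hq] at h3
  exact (hs.dvd_mul.1 h3).resolve_left fun h => hs2 ((Nat.prime_dvd_prime_iff_eq hs Nat.prime_two).1 h)

/-- if every odd prime divisor of `(q ^ n - 1) / 2` divides the order, then the order divides `p ^ j (q ^ n - 1) / 2` -/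
theorem TK.tor_all (h : TK p q k S) (x : S) (hx : ∀ s : ℕ, s.Prime → s ≠ 2 → s ∣ mn q k - 1 → s ∣ orderOf x) :
    ∃ j, orderOf x ∣ p ^ j * (mn q k - 1) :=
  h.tor' x fun i hi hik => by
    obtain ⟨s, hs, hs2, hsd, hsm⟩ := exists_prime_level (k := k) h.odd h.three_le hi hik
    exact ⟨s, hs, hs2, hsd, hx s hs hs2 hsm⟩

end

end Cfsg.Agent.H202.TP

private theorem dce_5e97e8126e02 : _root_.True := by
  try have : _root_.True := by simp only [_root_.Cfsg.Agent.H202.TP.mn.eq_1]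
  exact _root_.True.intro
end

-- part: H239/TPSp
section
set_option linter.all false
open scoped Cfsg.Agent.FastGrp

/-!
# Block TP (S3536): the symplectic and odd orthogonal candidates (helper239, task 3258 of helper202)

* `psp` : `PSp_{2d}(u)`, `p ∤ u`, does not satisfy `TK p q k`;
* `oodd` : the same for `PΩ_{2d+1}(u)`.
-/

set_option autoImplicit false

open Matrix

namespace Cfsg.Agent.H239.TPSp

open Cfsg Cfsg.Agent.H202.TP Cfsg.Agent.H436 Cfsg.Agent.OrdDiv Cfsg.Agent.H94.PG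

/-! ### `SL_d` in `PSp_{2d}`, `PΩ_{2d+1}` -/

section sl

/-- `A ↦ diag(A, det A⁻¹)` -/
def glSL (F : Type) [Field F] (k : ℕ) : GL (Fin k) F →* _root_.Matrix.SpecialLinearGroup (Fin (k + 1)) F where
  toFun A := ⟨Matrix.reindex finSumFinEquiv finSumFinEquiv
      (fromBlocks A.1 0 0 (Matrix.scalar (Fin 1) ((((GeneralLinearGroup.det A)⁻¹ : Fˣ) : F)))), by
    rw [det_reindex_self, det_fromBlocks_zero₂₁, det_fin_one, scalar_apply, diagonal_apply_eq]
    change ((GeneralLinearGroup.det A : Fˣ) : F) * _ = 1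
    exact Units.mul_inv _⟩
  map_one' := by
    apply Subtype.ext
    change Matrix.reindex finSumFinEquiv finSumFinEquiv (fromBlocks (1 : Matrix (Fin k) (Fin k) F) 0 0 _) = 1
    rw [map_one, inv_one, Units.val_one, map_one, fromBlocks_one, reindex_apply, submatrix_one_equiv]
  map_mul' A B := by
    apply Subtype.ext
    change Matrix.reindex finSumFinEquiv finSumFinEquiv (fromBlocks (A.1 * B.1) 0 0 _) =
      Matrix.reindex finSumFinEquiv finSumFinEquiv (fromBlocks A.1 0 0 _) *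
        Matrix.reindex finSumFinEquiv finSumFinEquiv (fromBlocks B.1 0 0 _)
    rw [reindex_apply, reindex_apply, reindex_apply, submatrix_mul_equiv, fromBlocks_multiply, map_mul, mul_inv,
      Units.val_mul, map_mul]
    simp only [_root_.Units.val_inv_eq_inv_val, _root_.Matrix.GeneralLinearGroup.val_det_apply, _root_.Matrix.scalar_apply, _root_.Matrix.diagonal_mul_diagonal, _root_.Matrix.mul_zero, _root_.add_zero, _root_.Matrix.zero_mul, _root_.zero_add]

theorem glSL_injective (F : Type) [Field F] (k : ℕ) : Function.Injective (glSL F k) := by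
  intro A B h
  have h1 := (Matrix.reindex finSumFinEquiv finSumFinEquiv).injective (congrArg Subtype.val h)
  exact Units.ext (Matrix.fromBlocks_inj.1 h1).1

theorem exists_sl (F : Type) [Field F] [Finite F] {k : ℕ} (hk : k ≠ 0) :
    ∃ A : _root_.Matrix.SpecialLinearGroup (Fin (k + 1)) F, orderOf A = Nat.card F ^ k - 1 := by
  obtain ⟨A, hA⟩ := Cfsg.Agent.H376.PrimeOrd.exists_GL (F := F) k hk _ dvd_rfl
  exact ⟨glSL F k A, by rw [orderOf_injective _ (glSL_injective F k), hA]⟩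

/-- `SL_d → PSp_{2d}` -/
noncomputable def slSp (F : Type) [Field F] (d : ℕ) : _root_.Matrix.SpecialLinearGroup (Fin d) F →* PSp d F :=
  (QuotientGroup.mk' _).comp ((H982.LawFam.gSp F d).comp SpecialLinearGroup.toGL)

theorem slSp_injective (F : Type) [Field F] {d : ℕ} (hd : Odd d) : Function.Injective (slSp F d) := by
  rw [injective_iff_map_eq_one]
  intro A hA
  have h1 : H982.LawFam.gSp F d (SpecialLinearGroup.toGL A) ∈ Subgroup.center (symplecticGroup (Fin d) F) :=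
    (QuotientGroup.eq_one_iff _).1 hA
  obtain ⟨a, ha⟩ := (LieClassical.SympCenter.mem_center_iff d _).1 h1
  have h2 : fromBlocks ((SpecialLinearGroup.toGL A : GL (Fin d) F) : Matrix (Fin d) (Fin d) F) 0 0
      (((SpecialLinearGroup.toGL A : GL (Fin d) F)⁻¹ : GL (Fin d) F) : Matrix (Fin d) (Fin d) F)ᵀ =
      fromBlocks (a • 1) 0 0 (a • 1) := by
    have h3 : (a • (1 : Matrix (Fin d ⊕ Fin d) (Fin d ⊕ Fin d) F)) = fromBlocks (a • 1) 0 0 (a • 1) := by
      rw [← fromBlocks_one, fromBlocks_smul]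
      simp
    rw [← h3, ← ha]
    rfl
  obtain ⟨h3, -, -, h4⟩ := Matrix.fromBlocks_inj.1 h2
  have h5 : (((SpecialLinearGroup.toGL A : GL (Fin d) F)⁻¹ : GL (Fin d) F) : Matrix (Fin d) (Fin d) F) = a • 1 := by
    have := congrArg Matrix.transpose h4
    rwa [transpose_transpose, transpose_smul, transpose_one] at this
  have h6 : (a * a) • (1 : Matrix (Fin d) (Fin d) F) = 1 := by
    have e := Units.mul_inv (SpecialLinearGroup.toGL A : GL (Fin d) F)
    rw [h3, h5, smul_mul_smul_comm, mul_one] at e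
    exact e
  have hd0 : 0 < d := hd.pos
  have h7 : a * a = 1 := by
    have := congrFun (congrFun h6 ⟨0, hd0⟩) ⟨0, hd0⟩
    simpa only [_root_.Matrix.smul_apply, _root_.Matrix.one_apply_eq, _root_.smul_eq_mul, _root_.mul_one] using this
  have h8 : a ^ d = 1 := by
    have e := A.2
    have e1 : (A : Matrix (Fin d) (Fin d) F) = a • 1 := h3
    rw [e1, det_smul, det_one, mul_one, Fintype.card_fin] at e
    exact e
  obtain ⟨t, ht⟩ := hd
  rw [ht, pow_succ, pow_mul, pow_two, h7, one_pow, one_mul] at h8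
  apply Subtype.ext
  have e1 : (A : Matrix (Fin d) (Fin d) F) = a • 1 := h3
  rw [e1, h8, one_smul]
  rfl

/-- `SL_d → O_{2d+1}` -/
noncomputable def slO (F : Type) [Field F] (d : ℕ) :
    _root_.Matrix.SpecialLinearGroup (Fin d) F →* isometryGroup F (quadFormOdd d F) :=
  (H982.LawFam.gOdd F d).comp SpecialLinearGroup.toGL

theorem slO_mem (F : Type) [Field F] {d : ℕ} (hd : 3 ≤ d) (A : _root_.Matrix.SpecialLinearGroup (Fin d) F) :
    slO F d A ∈ Omega F (quadFormOdd d F) := by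
  have h1 : A ∈ commutator (_root_.Matrix.SpecialLinearGroup (Fin d) F) := by
    rw [S0248.result d hd]
    exact Subgroup.mem_top A
  have h2 := Abelianization.commutator_subset_ker
    ((Abelianization.of (G := isometryGroup F (quadFormOdd d F))).comp (slO F d)) h1
  exact (QuotientGroup.eq_one_iff _).1 (MonoidHom.mem_ker.1 h2)

theorem center_bot (F : Type) [Field F] (h2 : (2 : F) ≠ 0) {d : ℕ} (hd : 1 ≤ d) :
    Subgroup.center (Omega F (quadFormOdd d F)) = ⊥ := by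
  have h3 := LieClassical.OrthCenter.center_omega_eq_bot_of_odd h2
    (LieClassical.OmegaReindex.quadOdd_nondegenerate (F := F) (m := d) h2)
    (by simp only [Fintype.card_sum, Fintype.card_fin, Fintype.card_unit]; omega)
    (by
      simp only [Fintype.card_sum, Fintype.card_fin, Fintype.card_unit]
      exact ⟨d, by omega⟩)
    (LieClassical.OmegaReindex.quadOdd_isotropic hd)
  rwa [LieClassical.OmegaReindex.coe_quadOdd] at h3

/-- `SL_d → PΩ_{2d+1}` -/
noncomputable def slPO (F : Type) [Field F] {d : ℕ} (hd : 3 ≤ d) :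
    _root_.Matrix.SpecialLinearGroup (Fin d) F →* POmega F (quadFormOdd d F) :=
  (QuotientGroup.mk' _).comp ((slO F d).codRestrict _ (slO_mem F hd))

theorem toGL_injective (F : Type) [Field F] (d : ℕ) :
    Function.Injective (SpecialLinearGroup.toGL : _root_.Matrix.SpecialLinearGroup (Fin d) F →* GL (Fin d) F) := by
  intro A B h
  exact Subtype.ext (congrArg Units.val h)

theorem slPO_injective (F : Type) [Field F] (h2 : (2 : F) ≠ 0) {d : ℕ} (hd : 3 ≤ d) :
    Function.Injective (slPO F hd) := by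
  rw [injective_iff_map_eq_one]
  intro A hA
  have h1 : (slO F d).codRestrict _ (slO_mem F hd) A ∈ Subgroup.center (Omega F (quadFormOdd d F)) :=
    (QuotientGroup.eq_one_iff _).1 hA
  rw [center_bot F h2 (by omega), Subgroup.mem_bot] at h1
  have h3 : slO F d A = 1 := congrArg Subtype.val h1
  have h4 : SpecialLinearGroup.toGL A = 1 := H982.LawFam.gOdd_injective F d (by rw [map_one]; exact h3)
  exact toGL_injective F d (by rw [h4, map_one])

end sl

/-! ### The elimination -/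

section core

variable {p q k : ℕ} {S : Type*} [Group S]

/-- the main principle -/
theorem eq_of (h : TK p q k S) {N r : ℕ} (hr : r.Prime) (hrm : r ∣ mn q k) (hrN : r ∣ N)
    (hN : ∃ x : S, orderOf x = N)
    (hv : ∀ s j : ℕ, s.Prime → s ∣ mn q k → 1 ≤ j → s ^ j ∣ Nat.card S → s ^ j ∣ N) : N = mn q k := by
  obtain ⟨x, rfl⟩ := hN
  have hm := h.mn_ge
  have h0 : mn q k ≠ 0 := by omega
  apply Nat.dvd_antisymm (h.iso r x hr hrm hrN)
  rw [← Nat.factorization_prime_le_iff_dvd h0]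
  · intro s hs
    by_cases hsm : s ∣ mn q k
    · have h1 : s ^ (mn q k).factorization s ∣ mn q k := Nat.ordProj_dvd _ _
      have h2 : 1 ≤ (mn q k).factorization s := (hs.dvd_iff_one_le_factorization h0).1 hsm
      have h3 := hv s _ hs hsm h2 (h1.trans h.dvd_card)
      have hx0 : orderOf x ≠ 0 := by
        intro h4
        have h5 := h.iso r x hr hrm hrN
        rw [h4] at h5
        exact h0 (Nat.eq_zero_of_zero_dvd h5)
      exact (hs.pow_dvd_iff_le_factorization hx0).1 h3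
    · rw [Nat.factorization_eq_zero_of_not_dvd hsm]
      exact Nat.zero_le _
  · intro h4
    have h5 := h.iso r x hr hrm hrN
    rw [h4] at h5
    exact h0 (Nat.eq_zero_of_zero_dvd h5)

/-- the neighbours of a prime divisor of `mn q k` divide `mn q k` -/
theorem adj (h : TK p q k S) {r s : ℕ} (hrm : r ∣ mn q k) (ha : Adj S r s) : s ∣ mn q k := by
  obtain ⟨hr, hs, hne, x, y, hx, hy, hxy⟩ := ha
  have h1 : orderOf (x * y) = r * s := by
    rw [hxy.orderOf_mul_eq_mul_orderOf_of_coprime (by rw [hx, hy]; exact (Nat.coprime_primes hr hs).2 hne), hx, hy]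
  have h2 := h.iso r (x * y) hr hrm (by rw [h1]; exact Dvd.intro _ rfl)
  rw [h1] at h2
  exact (Dvd.intro_left _ rfl : s ∣ r * s).trans h2

theorem mn_odd (h : TK p q k S) : Odd (mn q k) := by
  have := h.mn_mod
  rw [Nat.odd_iff]
  omega

theorem exists_prime (h : TK p q k S) : ∃ r : ℕ, r.Prime ∧ r ∣ mn q k :=
  Nat.exists_prime_and_dvd (by have := h.mn_ge; omega)

/-- the numerical contradiction for `2 m = u ^ d - 1` -/
theorem minus_false (h : TK p q k S) {d u : ℕ} (hd : 2 ≤ d) (huo : Odd u) (hu2 : 2 ≤ u)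
    (hR : ∀ r, r.Prime → r ∣ mn q k → ∀ i, 1 ≤ i → i < d → ¬ r ∣ u ^ (2 * i) - 1)
    (hsl : Odd d → ∃ x : S, orderOf x = u ^ (d - 1) - 1) (hm : u ^ d - 1 = 2 * mn q k) : False := by
  have hmo := mn_odd h
  have hmg := h.mn_ge
  have hq := h.odd
  have h2m := two_mn h.hk2 hq
  -- 4 does not divide `2 m`
  have h4 : ¬ 4 ∣ 2 * mn q k := by
    obtain ⟨c, hc⟩ := hmo
    omega
  -- `d` is odd
  have hdo : Odd d := by
    by_contra hde
    rw [Nat.not_odd_iff_even] at hde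
    obtain ⟨e, he⟩ := hde
    have h1 : u ^ 2 - 1 ∣ u ^ d - 1 := by
      rw [he, ← two_mul, pow_mul]
      simpa only [_root_.one_pow] using Nat.sub_dvd_pow_sub_pow (u ^ 2) 1 e
    have h8 : 4 ∣ u ^ 2 - 1 := by
      obtain ⟨c, hc⟩ := huo
      have : u ^ 2 = 4 * (c ^ 2 + c) + 1 := by rw [hc]; ring
      omega
    exact h4 (hm ▸ h8.trans h1)
  -- `u = 3`
  have hu3 : u = 3 := by
    have h1 : u - 1 ∣ u ^ d - 1 := by simpa only [_root_.one_pow] using Nat.sub_dvd_pow_sub_pow u 1 d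
    obtain ⟨c, hc⟩ := huo
    have hc1 : u - 1 = 2 * c := by omega
    rw [hc1, hm] at h1
    have h5 : c ∣ mn q k := Nat.dvd_of_mul_dvd_mul_left (by norm_num) h1
    have h6 : c = 1 := by
      by_contra hcne
      obtain ⟨r, hr, hrc⟩ := Nat.exists_prime_and_dvd hcne
      refine hR r hr (hrc.trans h5) 1 le_rfl (by omega) ?_
      have h7 : r ∣ u - 1 := by rw [hc1]; exact hrc.mul_left 2
      refine h7.trans ?_
      simpa only [_root_.mul_one, _root_.one_pow] using Nat.sub_dvd_pow_sub_pow u 1 2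
    omega
  subst hu3
  obtain ⟨x, hx⟩ := hsl hdo
  have hd1 : 3 ^ d = 3 * 3 ^ (d - 1) := by
    rw [← pow_succ', Nat.sub_add_cancel (by omega)]
  have hpos : 3 ≤ 3 ^ (d - 1) := by
    calc 3 = 3 ^ 1 := by norm_num
      _ ≤ 3 ^ (d - 1) := Nat.pow_le_pow_right (by norm_num) (by omega)
  obtain ⟨j, w, hw, hjw⟩ := Nat.exists_eq_two_pow_mul_odd (n := 3 ^ (d - 1) - 1) (by omega)
  have h7 := h.two j x (by rw [hx, hjw]; exact dvd_mul_right _ _)
  obtain ⟨c, hc⟩ := h7
  have h8 : 2 * (mn q k - 1) = 3 * (3 ^ (d - 1) - 1) := by (clear * - hm hd1; omega)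
  rw [hc, hjw] at h8
  have h9 : 2 * c = 3 * w := by
    have h10 : 2 ^ j * (2 * c) = 2 ^ j * (3 * w) := by
      calc 2 ^ j * (2 * c) = 2 * (2 ^ j * c) := by ring
        _ = 3 * (2 ^ j * w) := h8
        _ = 2 ^ j * (3 * w) := by ring
    exact Nat.eq_of_mul_eq_mul_left (by positivity) h10
  obtain ⟨b, hb⟩ := hw
  omega

theorem core [Finite S] (h : TK p q k S) {d u : ℕ} (hd : 2 ≤ d) (hu : IsPrimePow u) (hvu : ¬ p ∣ u)
    (hinfo : ∀ r, r.Prime → r ≠ 2 → r ∣ Nat.card S → ¬ Adj S r 2 →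
      (r ∣ u ^ d - 1 ∨ r ∣ u ^ d + 1) ∧ ∀ i, 1 ≤ i → i < d → ¬ r ∣ u ^ (2 * i) - 1)
    (hodd : ∀ N, Odd N → (N ∣ u ^ d - 1 ∨ N ∣ u ^ d + 1) → ∃ x : S, orderOf x = N)
    (hev : ∀ N, 0 < N → (2 * N ∣ u ^ d - 1 ∨ 2 * N ∣ u ^ d + 1) → ∃ x : S, orderOf x = N)
    (hcard : ∃ c, c ∣ 2 ∧ c * Nat.card S = u ^ (d ^ 2) * prB u d)
    (hsl : Odd d → ∃ x : S, orderOf x = u ^ (d - 1) - 1) : False := by
  obtain ⟨cc, -, hcard⟩ := hcard
  have hqo := h.odd
  have hmg := h.mn_ge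
  have h2m := two_mn h.hk2 hqo
  have hm8 := h.mn_mod
  have hu2 : 2 ≤ u := hu.two_le
  have hun : 4 ≤ u ^ d := by
    calc 4 = 2 ^ 2 := by norm_num
      _ ≤ 2 ^ d := Nat.pow_le_pow_right (by norm_num) hd
      _ ≤ u ^ d := Nat.pow_le_pow_left hu2 d
  have e2n : u ^ (2 * d) - 1 = (u ^ d + 1) * (u ^ d - 1) := by
    rw [mul_comm, pow_mul]
    have := Nat.sq_sub_sq (u ^ d) 1
    rw [one_pow] at this
    exact this
  -- the primes of `mn q k`
  have hR : ∀ r, r.Prime → r ∣ mn q k → (r ∣ u ^ d - 1 ∨ r ∣ u ^ d + 1) ∧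
      (∀ i, 1 ≤ i → i < d → ¬ r ∣ u ^ (2 * i) - 1) ∧ ¬ r ∣ u := by
    intro r hr hrm
    have h1 := hinfo r hr (h.ne_two_of_dvd hrm) (hrm.trans h.dvd_card) fun ha =>
      h.ne_two_of_dvd (adj h hrm ha) rfl
    refine ⟨h1.1, h1.2, fun h2 => ?_⟩
    have h3 : r ∣ u ^ d := dvd_pow h2 (by omega)
    rcases h1.1 with h4 | h4
    · have h5 := Nat.dvd_sub h3 h4
      rw [show u ^ d - (u ^ d - 1) = 1 by omega] at h5
      exact hr.one_lt.ne' (Nat.dvd_one.1 h5)
    · have h5 := (Nat.dvd_add_right h3).1 h4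
      exact hr.one_lt.ne' (Nat.dvd_one.1 h5)
  have hC : ∀ s j : ℕ, s.Prime → s ∣ mn q k → s ^ j ∣ Nat.card S → s ^ j ∣ (u ^ d + 1) * (u ^ d - 1) := by
    intro s j hs hsm hk
    obtain ⟨-, h1, h2⟩ := hR s hs hsm
    rw [← e2n]
    refine H104.TSp.pow_dvd_of (by omega) hs h2 h1 (e := d ^ 2) ?_
    rw [← hcard]
    exact hk.mul_left cc
  have hcop : ∀ s j A B : ℕ, s.Prime → ¬ s ∣ B → s ^ j ∣ A * B → s ^ j ∣ A := fun s j A B hs hB hd =>
    (Nat.Coprime.pow_left j ((hs.coprime_iff_not_dvd).2 hB)).dvd_of_dvd_mul_right hd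
  have hs2 : ∀ s, s ∣ mn q k → s.Prime → ¬ s ∣ 2 := fun s hsm hs hs2 =>
    h.ne_two_of_dvd hsm ((Nat.prime_dvd_prime_iff_eq hs Nat.prime_two).1 hs2)
  rcases Nat.even_or_odd u with hue | huo
  · -- `u` even
    have h4 : 4 ∣ u ^ d := by
      obtain ⟨t, ht⟩ := hue
      obtain ⟨j, rfl⟩ : ∃ j, d = 2 + j := ⟨d - 2, by omega⟩
      rw [pow_add]
      exact Dvd.dvd.mul_right ⟨t ^ 2, by rw [ht]; ring⟩ _
    obtain ⟨t, ht⟩ := h4
    have hex : ∀ N, Odd N → (N = u ^ d - 1 ∨ N = u ^ d + 1) → ∃ x : S, orderOf x = N := fun N hN hN' =>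
      hodd N hN (hN'.imp (fun h => dvd_of_eq h) (fun h => dvd_of_eq h))
    have o1 : Odd (u ^ d - 1) := ⟨2 * t - 1, by omega⟩
    have o2 : Odd (u ^ d + 1) := ⟨2 * t, by omega⟩
    by_cases hA : ∃ r : ℕ, r.Prime ∧ r ∣ mn q k ∧ r ∣ u ^ d + 1
    · by_cases hB : ∃ r : ℕ, r.Prime ∧ r ∣ mn q k ∧ r ∣ u ^ d - 1
      · obtain ⟨r, hr, hrm, hrd⟩ := hA
        obtain ⟨s, hs, hsm, hsd⟩ := hB
        obtain ⟨x, hx⟩ := hex _ o2 (Or.inr rfl)
        obtain ⟨y, hy⟩ := hex _ o1 (Or.inl rfl)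
        have h5 := h.iso r x hr hrm (by rw [hx]; exact hrd)
        have h6 := h.iso s y hs hsm (by rw [hy]; exact hsd)
        rw [hx] at h5
        rw [hy] at h6
        have hco : Nat.Coprime (u ^ d + 1) (u ^ d - 1) := by
          rw [show u ^ d + 1 = (u ^ d - 1) + 2 by omega, Nat.coprime_self_add_left]
          exact Nat.coprime_two_left.2 o1
        have h7 := hco.mul_dvd_of_dvd_of_dvd h5 h6
        have h8 : mn q k ∣ (u ^ d + 1) * (u ^ d - 1) := by
          rw [Nat.dvd_iff_prime_pow_dvd_dvd]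
          intro s j hs hk
          rcases Nat.eq_zero_or_pos j with rfl | hk0
          · simp
          · exact hC s j hs ((dvd_pow_self s (by omega)).trans hk) (hk.trans h.dvd_card)
        have h9 := Nat.dvd_antisymm h8 h7
        obtain ⟨w, hw⟩ : ∃ w, t = w + 1 := ⟨t - 1, by omega⟩
        have h10 : (u ^ d + 1) * (u ^ d - 1) = 8 * (2 * w ^ 2 + 4 * w + 1) + 7 := by
          rw [ht, hw, show 4 * (w + 1) - 1 = 4 * w + 3 by omega]
          ring
        omega
      · obtain ⟨r, hr, hrm, hrd⟩ := hA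
        have h5 : u ^ d + 1 = mn q k := eq_of h hr hrm hrd (hex _ o2 (Or.inr rfl)) fun s j hs hsm _ hk =>
          hcop s j _ _ hs (fun h6 => hB ⟨s, hs, hsm, h6⟩) (hC s j hs hsm hk)
        -- a power of two plus one
        obtain ⟨l, a, hl, ha, rfl⟩ := hu
        have h10 : 2 = l := (Nat.prime_dvd_prime_iff_eq Nat.prime_two hl.nat_prime).1
          (Nat.prime_two.dvd_of_dvd_pow hue.two_dvd)
        rw [← h10, ← pow_mul] at h5
        exact h.not_two_pow _ h5.symm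
    · obtain ⟨r, hr, hrm⟩ := exists_prime h
      have hrd : r ∣ u ^ d - 1 := (hR r hr hrm).1.resolve_right fun h6 => hA ⟨r, hr, hrm, h6⟩
      have h5 : u ^ d - 1 = mn q k := eq_of h hr hrm hrd (hex _ o1 (Or.inl rfl)) fun s j hs hsm _ hk =>
          hcop s j _ _ hs (fun h6 => hA ⟨s, hs, hsm, h6⟩) (by rw [mul_comm]; exact hC s j hs hsm hk)
      omega
  · -- `u` odd
    obtain ⟨t, ht⟩ : Odd (u ^ d) := huo.pow
    have e1 : u ^ d + 1 = 2 * (t + 1) := by omega
    have e2 : u ^ d - 1 = 2 * t := by omega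
    have x1 : ∃ x : S, orderOf x = t + 1 := hev _ (by omega) (Or.inr (by rw [e1]))
    have x2 : ∃ x : S, orderOf x = t := hev _ (by omega) (Or.inl (by rw [e2]))
    have ds : ∀ s : ℕ, s.Prime → s ∣ mn q k → ∀ N : ℕ, s ∣ 2 * N → s ∣ N := fun s hs hsm N hd =>
      (hs.dvd_mul.1 hd).resolve_left (hs2 s hsm hs)
    by_cases hA : ∃ r : ℕ, r.Prime ∧ r ∣ mn q k ∧ r ∣ t + 1
    · by_cases hB : ∃ r : ℕ, r.Prime ∧ r ∣ mn q k ∧ r ∣ t
      · obtain ⟨r, hr, hrm, hrd⟩ := hA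
        obtain ⟨s, hs, hsm, hsd⟩ := hB
        obtain ⟨x, hx⟩ := x1
        obtain ⟨y, hy⟩ := x2
        have h5 := h.iso r x hr hrm (by rw [hx]; exact hrd)
        have h6 := h.iso s y hs hsm (by rw [hy]; exact hsd)
        rw [hx] at h5
        rw [hy] at h6
        obtain ⟨a, ha⟩ := Odd.of_dvd_nat (mn_odd h) h5
        obtain ⟨b, hb⟩ := Odd.of_dvd_nat (mn_odd h) h6
        omega
      · obtain ⟨r, hr, hrm, hrd⟩ := hA
        have h5 : t + 1 = mn q k := eq_of h hr hrm hrd x1 fun s j hs hsm _ hk => by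
          have h6 := hC s j hs hsm hk
          rw [e1, e2] at h6
          have h7 : s ^ j ∣ (t + 1) * (4 * t) := by
            rw [show (t + 1) * (4 * t) = 2 * (t + 1) * (2 * t) by ring]
            exact h6
          refine hcop s j _ _ hs (fun h8 => ?_) h7
          exact hB ⟨s, hs, hsm, ds s hs hsm _ (ds s hs hsm _ (by
            rw [show 2 * (2 * t) = 4 * t by ring]; exact h8))⟩
        -- `u ^ d = q ^ n`
        have h6 : u ^ d = q ^ 2 ^ k := by (clear * - h2m ht h5; omega)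
        apply hvu
        have h7 : p ∣ u ^ d := by
          rw [h6]
          exact dvd_pow h.dvd (pow_pos (by norm_num) k).ne'
        exact h.prime.dvd_of_dvd_pow h7
    · obtain ⟨r, hr, hrm⟩ := exists_prime h
      have hrd : r ∣ t := by
        rcases (hR r hr hrm).1 with h6 | h6
        · rw [e2] at h6
          exact ds r hr hrm _ h6
        · rw [e1] at h6
          exact absurd ⟨r, hr, hrm, ds r hr hrm _ h6⟩ hA
      have h5 : t = mn q k := eq_of h hr hrm hrd x2 fun s j hs hsm _ hk => by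
        have h6 := hC s j hs hsm hk
        rw [e1, e2] at h6
        have h7 : s ^ j ∣ t * (4 * (t + 1)) := by
          rw [show t * (4 * (t + 1)) = 2 * (t + 1) * (2 * t) by ring]
          exact h6
        refine hcop s j _ _ hs (fun h8 => ?_) h7
        exact hA ⟨s, hs, hsm, ds s hs hsm _ (ds s hs hsm _ (by
          rw [show 2 * (2 * (t + 1)) = 4 * (t + 1) by ring]; exact h8))⟩
      exact minus_false h hd huo hu2 (fun r hr hrm => (hR r hr hrm).2.1) hsl (by rw [e2, h5])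

end core

theorem psp {p q k d u : ℕ} {S : Type*} [Group S] [Finite S] (h : TK p q k S) (hg : IsNamed (.psp d u) S)
    (hv : ¬ p ∣ u) : False := by
  obtain ⟨hn, -, hu⟩ := hg.cond
  obtain ⟨F, _, _, hF, ⟨e⟩⟩ := hg.real
  have h' := h.congr e
  have hc : Nat.card S = Nat.card (PSp d F) := Nat.card_congr e.toEquiv
  have hFc : Nat.card F = u := by rw [Nat.card_eq_fintype_card, hF]
  have : Finite (PSp d F) := Finite.of_equiv S e.toEquiv
  refine core h' hn hu hv ?_ ?_ ?_ ⟨Nat.gcd 2 (u - 1), Nat.gcd_dvd_left _ _, ?_⟩ ?_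
  · intro r hr hr2 hd ha
    rw [← hFc]
    exact Cfsg.Agent.H377.psp_info hn hr hr2 hd ha
  · intro N hN hd
    rw [← hFc] at hd
    rcases hd with hd | hd
    · exact Cfsg.Agent.H377.exists_psp_tor_plus (by omega) hN.pos (Or.inl ⟨hN, hd⟩)
    · exact Cfsg.Agent.H377.exists_psp_tor_minus (by omega) hN.pos (Or.inl ⟨hN, hd⟩)
  · intro N hN hd
    rw [← hFc] at hd
    rcases hd with hd | hd
    · exact Cfsg.Agent.H377.exists_psp_tor_plus (by omega) hN (Or.inr hd)
    · exact Cfsg.Agent.H377.exists_psp_tor_minus (by omega) hN (Or.inr hd)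
  · rw [← hc]
    exact hg.eq
  · intro hdo
    obtain ⟨j, rfl⟩ : ∃ j, d = j + 1 := ⟨d - 1, by omega⟩
    obtain ⟨A, hA⟩ := exists_sl F (k := j) (by omega)
    refine ⟨slSp F (j + 1) A, ?_⟩
    rw [orderOf_injective _ (slSp_injective F hdo), hA, hFc, Nat.add_sub_cancel]

theorem oodd {p q k d u : ℕ} {S : Type*} [Group S] [Finite S] (h : TK p q k S) (hg : IsNamed (.oodd d u) S)
    (hv : ¬ p ∣ u) : False := by
  obtain ⟨hn, ho, hu⟩ := hg.cond
  obtain ⟨F, _, _, hF, ⟨e⟩⟩ := hg.real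
  have h' := h.congr e
  have hc : Nat.card S = Nat.card (POmega F (quadFormOdd d F)) := Nat.card_congr e.toEquiv
  have hFc : Nat.card F = u := by rw [Nat.card_eq_fintype_card, hF]
  have hoF : Odd (Nat.card F) := by rw [hFc]; exact ho
  have : Finite (POmega F (quadFormOdd d F)) := Finite.of_equiv S e.toEquiv
  refine core h' (show 2 ≤ d by omega) hu hv ?_ ?_ ?_ ⟨2, dvd_rfl, ?_⟩ ?_
  · intro r hr hr2 hd ha
    rw [← hFc]
    exact Cfsg.Agent.H377.OOdd.info hoF hn hr hr2 hd ha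
  · intro N hN hd
    rw [← hFc] at hd
    rcases hd with hd | hd
    · exact Cfsg.Agent.H377.OOdd.exists_odd_tor hoF hn hN (Cfsg.Agent.H377.elt_tor_plus (by omega) hd)
    · exact Cfsg.Agent.H377.OOdd.exists_odd_tor hoF hn hN (Cfsg.Agent.H377.elt_tor_minus (by omega) hd)
  · intro N hN hd
    rw [← hFc] at hd
    rcases hd with hd | hd
    · exact Cfsg.Agent.H377.OOdd.exists_even_tor hoF hn (Cfsg.Agent.H377.elt_tor_plus (by omega) hd)
    · exact Cfsg.Agent.H377.OOdd.exists_even_tor hoF hn (Cfsg.Agent.H377.elt_tor_minus (by omega) hd)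
  · rw [← hc]
    exact hg.eq
  · intro _
    obtain ⟨j, rfl⟩ : ∃ j, d = j + 1 := ⟨d - 1, by omega⟩
    obtain ⟨A, hA⟩ := exists_sl F (k := j) (by omega)
    refine ⟨slPO F hn A, ?_⟩
    rw [orderOf_injective _ (slPO_injective F (Cfsg.Agent.H377.OOdd.two_ne_zero_of_odd hoF) hn), hA, hFc,
      Nat.add_sub_cancel]

end Cfsg.Agent.H239.TPSp
end
end
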